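import Groth.Agent.GrpSchLib.UnitsScheme
import Mathlib.AlgebraicGeometry.Properties
import Mathlib.RingTheory.FiniteType

/-! Normalised units on a product of connected reduced schemes of finite type over an algebraically
closed field are trivial. -/

universe u

open CategoryTheory Limits AlgebraicGeometry MonoidalCategory CartesianMonoidalCategory MonObj GrpObj TensorProduct TopologicalSpace

namespace Groth.Agent.GrpSchLib.UnitsConn

open Groth.Agent.GrpSchLib.Kunneth

variable {k : Type u} [Field k]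

/-- Rational points. -/
noncomputable abbrev Pt (X : Over (Spec (CommRingCat.of k))) := 𝟙_ (Over (Spec (CommRingCat.of k))) ⟶ X

/-- The image of a rational point. -/
noncomputable abbrev img {X : Over (Spec (CommRingCat.of k))} (x : Pt X) : X.left := x.left (IsLocalRing.closedPoint k)

/-- Two points lie on a common integral affine piece. -/
def Rel (X : Over (Spec (CommRingCat.of k))) (x x' : Pt X) : Prop :=
  ∃ (T : Over (Spec (CommRingCat.of k))) (_ : IsIntegral T.left) (_ : IsSeparated T.hom)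
    (_ : LocallyOfFiniteType T.hom) (_ : QuasiCompact T.hom) (j : T ⟶ X) (a a' : Pt T),
    a ≫ j = x ∧ a' ≫ j = x'

lemma algHom_ext_ker {A : Type*} [CommRing A] [Algebra k A] (σ σ' : A →ₐ[k] k)
    (h : RingHom.ker σ = RingHom.ker σ') : σ = σ' := AlgHom.ext fun a => by
  have h1 : a - algebraMap k A (σ' a) ∈ RingHom.ker σ := by
    rw [h]; simp [RingHom.mem_ker]
  simpa [RingHom.mem_ker, sub_eq_zero] using h1

variable [IsAlgClosed k]

lemma exists_pt {X : Over (Spec (CommRingCat.of k))} [LocallyOfFiniteType X.hom] {w : X.left}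
    (hw : IsClosed ({w} : Set X.left)) : ∃ x : Pt X, img x = w := by
  obtain ⟨s, hs⟩ := exists_point_of_isClosed (k := k) (K := k) X hw
  exact ⟨(Over.homMk (𝟙 (Spec (CommRingCat.of k))) (by
    show 𝟙 _ ≫ Spec.map (CommRingCat.ofHom (algebraMap k k)) = 𝟙 _
    simp) : 𝟙_ (Over (Spec (CommRingCat.of k))) ⟶ Over.mk (Spec.map (CommRingCat.ofHom (algebraMap k k)))) ≫ s, hs⟩

omit [IsAlgClosed k] in
/-- Points in an affine open specialising a common point lie on a common piece. -/
lemma rel_of_specializes {X : Over (Spec (CommRingCat.of k))} [LocallyOfFiniteType X.hom]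
    {U : X.left.Opens} (hU : IsAffineOpen U) {gp : X.left} (x x' : Pt X)
    (hxU : img x ∈ U) (hx'U : img x' ∈ U) (hx : gp ⤳ img x) (hx' : gp ⤳ img x') :
    Rel X x x' := by
  let A := Γ(X.left, U)
  let φ : CommRingCat.of k ⟶ A := (Scheme.ΓSpecIso (CommRingCat.of k)).inv ≫ X.hom.appLE ⊤ U le_top
  algebraize [φ.hom]
  have hfrom : hU.fromSpec ≫ X.hom = Spec.map φ := by
    rw [← (isAffineOpen_top (Spec (CommRingCat.of k))).SpecMap_appLE_fromSpec X.hom hU le_top,
      Spec.map_comp]
    congr 1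
    simp [IsAffineOpen.fromSpec_top]
  have hft : φ.hom.FiniteType := by
    rw [CommRingCat.hom_comp]
    exact RingHom.FiniteType.comp (X.hom.finiteType_appLE (isAffineOpen_top _) hU le_top)
      (RingHom.FiniteType.of_surjective _
        (ConcreteCategory.bijective_of_isIso (Scheme.ΓSpecIso (CommRingCat.of k)).inv).2)
  haveI : Algebra.FiniteType k A := hft
  have hgU : gp ∈ U := hx.mem_open U.isOpen hxU
  obtain ⟨P, hP⟩ : ∃ P : Spec A, hU.fromSpec P = gp := by
    have : gp ∈ Set.range hU.fromSpec := by rw [hU.range_fromSpec]; exact hgU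
    exact this
  haveI := P.isPrime
  let B := A ⧸ P.asIdeal
  let T : Over (Spec (CommRingCat.of k)) := Over.mk (Spec.map (CommRingCat.ofHom (algebraMap k B)))
  let incl : Spec (CommRingCat.of B) ⟶ Spec A := Spec.map (CommRingCat.ofHom (Ideal.Quotient.mk P.asIdeal))
  let j : T ⟶ X := Over.homMk (incl ≫ hU.fromSpec) (by
    show (incl ≫ hU.fromSpec) ≫ X.hom = Spec.map _
    rw [Category.assoc, hfrom, ← Spec.map_comp]
    rfl)
  have key : ∀ y : Pt X, img y ∈ U → gp ⤳ img y → ∃ a : Pt T, a ≫ j = y := by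
    intro y hyU hy
    have hrange : Set.range y.left ⊆ Set.range hU.fromSpec := by
      rintro _ ⟨t, rfl⟩
      rw [hU.range_fromSpec, Subsingleton.elim (α := Spec (CommRingCat.of k)) t (IsLocalRing.closedPoint k)]
      exact hyU
    let l : Spec (CommRingCat.of k) ⟶ Spec A := IsOpenImmersion.lift hU.fromSpec y.left hrange
    obtain ⟨ψ, hψ⟩ := Spec.map_surjective l
    have hlj : l ≫ hU.fromSpec = y.left := IsOpenImmersion.lift_fac _ _ _
    have hψφ : φ ≫ ψ = 𝟙 _ := Spec.map_injective (by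
      rw [Spec.map_comp, hψ, ← hfrom, ← Category.assoc, hlj, Spec.map_id]
      exact Over.w y)
    let Q : Spec A := l (IsLocalRing.closedPoint k)
    have hQ : hU.fromSpec Q = img y := by
      show (l ≫ hU.fromSpec) _ = _
      rw [hlj]
    have hPQ : P.asIdeal ≤ Q.asIdeal := by
      rw [← hP, ← hQ] at hy
      exact PrimeSpectrum.le_iff_specializes P Q |>.2
        ((hU.fromSpec.isOpenEmbedding.isInducing.specializes_iff).1 hy)
    have hker : ∀ a ∈ P.asIdeal, ψ.hom a = 0 := fun a ha => by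
      have h1 : a ∈ Q.asIdeal := hPQ ha
      rw [show Q = (Spec.map ψ) (IsLocalRing.closedPoint k) by rw [hψ]] at h1
      have h2 : ψ.hom a ∈ IsLocalRing.maximalIdeal k := h1
      rwa [IsLocalRing.maximalIdeal_eq_bot, Ideal.mem_bot] at h2
    let ψ' : CommRingCat.of B ⟶ CommRingCat.of k := CommRingCat.ofHom (Ideal.Quotient.lift P.asIdeal ψ.hom hker)
    have hψ' : CommRingCat.ofHom (Ideal.Quotient.mk P.asIdeal) ≫ ψ' = ψ := by
      ext a
      exact Ideal.Quotient.lift_mk P.asIdeal ψ.hom hker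
    refine ⟨Over.homMk (Spec.map ψ') ?_, ?_⟩
    · show Spec.map ψ' ≫ Spec.map _ = 𝟙 _
      rw [← Spec.map_comp, ← Spec.map_id]
      refine congrArg Spec.map ?_
      ext c
      exact congrArg (fun r => r.hom c) hψφ
    · ext1
      show Spec.map ψ' ≫ incl ≫ hU.fromSpec = y.left
      rw [← Category.assoc, ← Spec.map_comp, hψ', hψ, hlj]
  obtain ⟨a, ha⟩ := key x hxU hx
  obtain ⟨a', ha'⟩ := key x' hx'U hx'
  haveI : IsDomain B := Ideal.Quotient.isDomain _
  haveI : IsAffine T.left := inferInstanceAs (IsAffine (Spec (CommRingCat.of B)))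
  exact ⟨T, inferInstanceAs (IsIntegral (Spec (CommRingCat.of B))), inferInstance,
    (HasRingHomProperty.Spec_iff (P := @LocallyOfFiniteType)).2
      (RingHom.finiteType_algebraMap.2 (inferInstance : Algebra.FiniteType k B)),
    inferInstance, j, a, a', ha, ha'⟩

/-- A function of the rational points constant on the pieces is constant. -/
theorem constant {X : Over (Spec (CommRingCat.of k))} [LocallyOfFiniteType X.hom] [QuasiCompact X.hom]
    [ConnectedSpace X.left] {α : Type*} (φ : Pt X → α) (h : ∀ x x', Rel X x x' → φ x = φ x')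
    (x x' : Pt X) : φ x = φ x' := by
  haveI : CompactSpace X.left := (quasiCompact_iff_compactSpace X.hom).mp inferInstance
  haveI : JacobsonSpace X.left := LocallyOfFiniteType.jacobsonSpace X.hom
  haveI : IsLocallyNoetherian X.left := LocallyOfFiniteType.isLocallyNoetherian X.hom
  haveI : IsNoetherian X.left := {}
  have hsame : ∀ (gp : X.left) (y y' : Pt X), gp ⤳ img y → gp ⤳ img y' → φ y = φ y' := by
    intro gp y y' hy hy'
    obtain ⟨U, hU, hyU, -⟩ := exists_isAffineOpen_mem_and_subset (X := X.left) (x := img y) (U := ⊤) trivial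
    obtain ⟨V, hV, hyV, -⟩ := exists_isAffineOpen_mem_and_subset (X := X.left) (x := img y') (U := ⊤) trivial
    obtain ⟨w, hw, hwc⟩ := nonempty_inter_closedPoints (Z := ((U ⊓ V : X.left.Opens) : Set X.left) ∩ closure {gp})
      ⟨gp, ⟨hy.mem_open U.isOpen hyU, hy'.mem_open V.isOpen hyV⟩, subset_closure rfl⟩
      ((U ⊓ V).isOpen.isLocallyClosed.inter isClosed_closure.isLocallyClosed)
    obtain ⟨z, hz⟩ := exists_pt (X := X) hwc
    have hgz : gp ⤳ img z := by rw [hz]; exact specializes_iff_mem_closure.2 hw.2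
    refine (h y z (rel_of_specializes hU y z hyU (by rw [hz]; exact hw.1.1) hy hgz)).trans
      (h z y' (rel_of_specializes hV z y' (by rw [hz]; exact hw.1.2) hyV hgz hy'))
  let comps := irreducibleComponents X.left
  haveI : Finite comps := (NoetherianSpace.finite_irreducibleComponents (α := X.left)).to_subtype
  let good : comps → Prop := fun Z => ∀ y : Pt X, img y ∈ Z.1 → φ y = φ x
  let A : Set X.left := ⋃ Z : {Z : comps // good Z}, Z.1.1
  let B : Set X.left := ⋃ Z : {Z : comps // ¬ good Z}, Z.1.1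
  have hcl : ∀ Z : comps, IsClosed Z.1 := fun Z => isClosed_of_mem_irreducibleComponents _ Z.2
  have hA : IsClosed A := isClosed_iUnion_of_finite fun Z => hcl Z.1
  have hB : IsClosed B := isClosed_iUnion_of_finite fun Z => hcl Z.1
  have hconst : ∀ (Z : comps) (y y' : Pt X), img y ∈ Z.1 → img y' ∈ Z.1 → φ y = φ y' := by
    intro Z y y' hy hy'
    have hg := Z.2.1.isGenericPoint_genericPoint (hcl Z)
    exact hsame Z.2.1.genericPoint y y' (hg.specializes hy) (hg.specializes hy')
  have hdisj : ∀ p, p ∈ A → p ∉ B := by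
    intro p hpA hpB
    obtain ⟨⟨Z, hZ⟩, hpZ⟩ := Set.mem_iUnion.1 hpA
    obtain ⟨⟨Z', hZ'⟩, hpZ'⟩ := Set.mem_iUnion.1 hpB
    obtain ⟨w, hw, hwc⟩ := IsClosed.exists_closed_singleton (isClosed_closure (s := {p}))
      ⟨p, subset_closure rfl⟩
    obtain ⟨z, hz⟩ := exists_pt (X := X) hwc
    have hzZ : img z ∈ Z.1 := hz ▸ closure_minimal (Set.singleton_subset_iff.2 hpZ) (hcl Z) hw
    have hzZ' : img z ∈ Z'.1 := hz ▸ closure_minimal (Set.singleton_subset_iff.2 hpZ') (hcl Z') hw
    exact hZ' fun y hy => (hconst Z' y z hy hzZ').trans (hZ z hzZ)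
  have hcov : ∀ p, p ∈ A ∨ p ∈ B := by
    intro p
    let Z : comps := ⟨irreducibleComponent p, irreducibleComponent_mem_irreducibleComponents p⟩
    rcases em (good Z) with hZ | hZ
    · exact Or.inl (Set.mem_iUnion.2 ⟨⟨Z, hZ⟩, mem_irreducibleComponent⟩)
    · exact Or.inr (Set.mem_iUnion.2 ⟨⟨Z, hZ⟩, mem_irreducibleComponent⟩)
  have hAB : A = Bᶜ := Set.ext fun p => ⟨hdisj p, fun hp => (hcov p).resolve_right hp⟩
  have hxA : img x ∈ A := by
    let Z : comps := ⟨irreducibleComponent (img x), irreducibleComponent_mem_irreducibleComponents _⟩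
    exact Set.mem_iUnion.2 ⟨⟨Z, fun y hy => hconst Z y x hy mem_irreducibleComponent⟩, mem_irreducibleComponent⟩
  have huniv : A = Set.univ := IsClopen.eq_univ ⟨hA, hAB ▸ hB.isOpen_compl⟩ ⟨_, hxA⟩
  obtain ⟨⟨Z, hZ⟩, hx'Z⟩ := Set.mem_iUnion.1 (show img x' ∈ A by rw [huniv]; trivial)
  exact (hZ x' hx'Z).symm

variable {X Y : Over (Spec (CommRingCat.of k))} [LocallyOfFiniteType X.hom] [QuasiCompact X.hom]
  [LocallyOfFiniteType Y.hom] [QuasiCompact Y.hom]

omit [IsAlgClosed k] in
lemma evPt_ev_tensor {T T' : Over (Spec (CommRingCat.of k))} (j : T ⟶ X) (l : T' ⟶ Y)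
    (a : Pt T) (b : Pt T') (f : Fn (X ⊗ Y)) :
    evPt (lift a b) (ev (lift (fst T T' ≫ j) (snd T T' ≫ l)) f) = evPt (lift (a ≫ j) (b ≫ l)) f := by
  rw [evPt_comp, comp_lift, ← Category.assoc, ← Category.assoc, lift_fst, lift_snd]

/-- On integral pieces a unit splits, so it satisfies the cross identity. -/
lemma cross {f : Fn (X ⊗ Y)} (hf : IsUnit f) {x x' : Pt X} {y y' : Pt Y} (hx : Rel X x x')
    (hy : Rel Y y y') :
    evPt (lift x y) f * evPt (lift x' y') f = evPt (lift x y') f * evPt (lift x' y) f := by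
  obtain ⟨T, _, _, _, _, j, a, a', rfl, rfl⟩ := hx
  obtain ⟨T', _, _, _, _, l, b, b', rfl, rfl⟩ := hy
  obtain ⟨g, h, -, -, e⟩ := exists_units_mul (hf.map (ev (lift (fst T T' ≫ j) (snd T T' ≫ l))))
  have key : ∀ (c : Pt T) (d : Pt T'), evPt (lift (c ≫ j) (d ≫ l)) f = evPt c g * evPt d h := by
    intro c d
    have e' := congrArg (evPt (lift c d)) e
    rw [evPt_ev_tensor, map_mul, evPt_comp, evPt_comp, lift_fst, lift_snd] at e'
    exact e'
  rw [key, key, key, key]
  ring

theorem eq_one [IsReduced (X ⊗ Y).left] [ConnectedSpace X.left] [ConnectedSpace Y.left]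
    {f : Fn (X ⊗ Y)} (hf : IsUnit f) (x₀ : Pt X) (y₀ : Pt Y)
    (hX : ev (lift (𝟙 X) (toUnit X ≫ y₀)) f = 1) (hY : ev (lift (toUnit Y ≫ x₀) (𝟙 Y)) f = 1) :
    f = 1 := by
  let c : Pt X → Pt Y → k := fun x y => evPt (lift x y) f
  have hne : ∀ x y, c x y ≠ 0 := fun x y => (hf.map (evPt (lift x y))).ne_zero
  have hxy₀ : ∀ x, c x y₀ = 1 := fun x => by
    have h1 := congrArg (evPt x) hX
    rw [map_one, evPt_comp, comp_lift, Category.comp_id, ← Category.assoc,
      toUnit_unique (x ≫ toUnit X) (𝟙 _), Category.id_comp] at h1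
    exact h1
  have hx₀y : ∀ y, c x₀ y = 1 := fun y => by
    have h1 := congrArg (evPt y) hY
    rw [map_one, evPt_comp, comp_lift, Category.comp_id, ← Category.assoc,
      toUnit_unique (y ≫ toUnit Y) (𝟙 _), Category.id_comp] at h1
    exact h1
  have hinv : ∀ x y y', Rel Y y y' → c x y = c x y' := by
    intro x y y' hy
    have h1 := constant (X := X) (fun z => c z y / c z y') (fun z z' hz => by
      rw [div_eq_div_iff (hne _ _) (hne _ _)]
      exact (cross hf hz hy).trans (mul_comm _ _)) x x₀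
    rw [hx₀y, hx₀y, div_one, div_eq_one_iff_eq (hne _ _)] at h1
    exact h1
  haveI : LocallyOfFiniteType (X ⊗ Y).hom := by
    show LocallyOfFiniteType (pullback.fst X.hom Y.hom ≫ X.hom); infer_instance
  refine sub_eq_zero.1 (eq_zero_of_forall_evPt (f - 1) fun z => ?_)
  rw [map_sub, map_one, sub_eq_zero, show z = lift (z ≫ fst X Y) (z ≫ snd X Y) by ext1 <;> simp]
  exact (constant (X := Y) (c (z ≫ fst X Y)) (hinv _) _ y₀).trans (hxy₀ _)

end Groth.Agent.GrpSchLib.UnitsConn
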